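import Groth.Agent.ResProp.EF.K90.RMat
import Mathlib.RingTheory.HopfAlgebra.Convolution

/-!
# G5, node (B5), part 2: operators of a comodule on points, matrices of operators

`op V B g` : the operator of the point `g` on `B ⊗ V`.  `matRepOf R V` : the representation of the group on `I × I → V`,
`X ↦ R X R⁻¹` (functor of points).
-/

set_option autoImplicit false

universe u v w

open TensorProduct

namespace Groth.Agent.ResProp.EF.K90

open K104

section Op

variable {k : Type u} [CommRing k] {A : Type u} [CommRing A] [Bialgebra k A]
variable (V : Type w) [AddCommGroup V] [Module k V] [HopfRep.Comod k A V]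

/-- the operator of a point -/
noncomputable def op (B : Type u) [CommRing B] [Algebra k B] (g : A →ₐ[k] B) :
    B ⊗[k] V →ₗ[B] B ⊗[k] V :=
  LinearMap.liftBaseChange B ((TensorProduct.comm k V B).toLinearMap ∘ₗ g.toLinearMap.lTensor V ∘ₗ
    (HopfRep.Comod.coact (k := k) (A := A) : V →ₗ[k] V ⊗[k] A))

theorem op_tmul (B : Type u) [CommRing B] [Algebra k B] (g : A →ₐ[k] B) (b : B) (v : V) :
    op V B g (b ⊗ₜ v) = b • TensorProduct.comm k V B
      (g.toLinearMap.lTensor V (HopfRep.Comod.coact (k := k) (A := A) v)) := by
  simp [op]

theorem op_nat {B C : Type u} [CommRing B] [Algebra k B] [CommRing C] [Algebra k C]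
    (f : B →ₐ[k] C) (g : A →ₐ[k] B) (x : B ⊗[k] V) :
    f.toLinearMap.rTensor V (op V B g x) = op V C (f.comp g) (f.toLinearMap.rTensor V x) := by
  induction x with
  | zero => simp
  | add x y hx hy => simp only [map_add, hx, hy]
  | tmul b v =>
    rw [LinearMap.rTensor_tmul, op_tmul, op_tmul]
    generalize HopfRep.Comod.coact (k := k) (A := A) v = y
    induction y with
    | zero => simp
    | add x y hx hy => simp only [map_add, smul_add, hx, hy]
    | tmul v a => simp [TensorProduct.smul_tmul']

theorem op_pmul {B : Type u} [CommRing B] [Algebra k B] (g h : A →ₐ[k] B) (x : B ⊗[k] V) :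
    op V B (pmul g h) x = op V B g (op V B h x) := by
  have key : ∀ z : V ⊗[k] A, op V B g (TensorProduct.comm k V B (h.toLinearMap.lTensor V z)) =
      TensorProduct.comm k V B ((Algebra.TensorProduct.lift g h (fun _ _ => Commute.all _ _)).toLinearMap.lTensor V
        ((TensorProduct.assoc k V A A) ((HopfRep.Comod.coact (k := k) (A := A)).rTensor A z))) := by
    intro z
    induction z with
    | zero => simp
    | add x y hx hy => simp only [map_add, hx, hy]
    | tmul v a =>
      rw [LinearMap.lTensor_tmul, TensorProduct.comm_tmul, op_tmul, LinearMap.rTensor_tmul]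
      generalize HopfRep.Comod.coact (k := k) (A := A) v = y
      induction y with
      | zero => simp
      | add x y hx hy => simp only [map_add, smul_add, TensorProduct.add_tmul, hx, hy]
      | tmul v b => simp [TensorProduct.smul_tmul', mul_comm]
  induction x with
  | zero => simp
  | add x y hx hy => simp only [map_add, hx, hy]
  | tmul b v =>
    rw [op_tmul, op_tmul, map_smul]
    congr 1
    rw [key]
    have h1 := LinearMap.congr_fun (HopfRep.Comod.coassoc (k := k) (A := A) (V := V)) v
    simp only [LinearMap.comp_apply, LinearEquiv.coe_coe] at h1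
    rw [h1]
    congr 1
    generalize HopfRep.Comod.coact (k := k) (A := A) v = y
    induction y with
    | zero => simp
    | add x y hx hy => simp only [map_add, hx, hy]
    | tmul v a => rfl

theorem op_pone (B : Type u) [CommRing B] [Algebra k B] (x : B ⊗[k] V) :
    op V B (pone (A := A) B) x = x := by
  induction x with
  | zero => simp
  | add x y hx hy => simp only [map_add, hx, hy]
  | tmul b v =>
    rw [op_tmul]
    have h1 := LinearMap.congr_fun (HopfRep.Comod.counit_comp (k := k) (A := A) (V := V)) v
    simp only [LinearMap.comp_apply, LinearMap.flip_apply, TensorProduct.mk_apply] at h1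
    have h2 : (pone (A := A) B).toLinearMap.lTensor V (HopfRep.Comod.coact (k := k) (A := A) v) =
        (Algebra.linearMap k B).lTensor V ((CoalgebraStruct.counit (R := k) (A := A)).lTensor V
          (HopfRep.Comod.coact (k := k) (A := A) v)) := by
      generalize HopfRep.Comod.coact (k := k) (A := A) v = y
      induction y with
      | zero => simp
      | add x y hx hy => simp only [map_add, hx, hy]
      | tmul v a => rfl
    rw [h2, h1]
    simp [TensorProduct.smul_tmul']

/-- the representation by functor of points -/
noncomputable def repOf : Rep k A V where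
  s B _ _ g := op V B g
  nat f g x := op_nat V f g x
  mul _ _ _ _ g h x := op_pmul V g h x
  one B _ _ _ x := op_pone V B x

end Op

section Mat

variable {k : Type u} [CommRing k] {A : Type u} [CommRing A] [HopfAlgebra k A]
variable {I : Type} [Fintype I] [DecidableEq I] (R : Matrix I I A)
  (hc : ∀ i j, Coalgebra.comul (R := k) (R i j) = ∑ l, R i l ⊗ₜ[k] R l j)
  (he : ∀ i j, Coalgebra.counit (R := k) (R i j) = (1 : Matrix I I k) i j)

include hc in
theorem map_pmul {B : Type u} [CommRing B] [Algebra k B] (g h : A →ₐ[k] B) :
    R.map (pmul g h) = R.map g * R.map h := by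
  ext i j
  simp only [Matrix.map_apply, Matrix.mul_apply]
  show (Algebra.TensorProduct.lift g h (fun _ _ => Commute.all _ _)) (Coalgebra.comul (R := k) (R i j)) = _
  rw [hc, map_sum]
  simp

include he in
theorem map_pone (B : Type u) [CommRing B] [Algebra k B] : R.map (pone (k := k) B) = 1 := by
  ext i j
  simp only [Matrix.map_apply]
  show algebraMap k B (Coalgebra.counit (R := k) (R i j)) = _
  rw [he]
  simp only [Matrix.one_apply]
  split_ifs <;> simp

/-- the inverse point -/
noncomputable def pinv {B : Type u} [CommRing B] [Algebra k B] (g : A →ₐ[k] B) : A →ₐ[k] B :=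
  g.comp (HopfAlgebra.antipodeAlgHom k A)

include hc he in
theorem map_mul_inv {B : Type u} [CommRing B] [Algebra k B] (g : A →ₐ[k] B) :
    R.map g * R.map (pinv g) = 1 := by
  ext i j
  simp only [Matrix.map_apply, Matrix.mul_apply, pinv, AlgHom.comp_apply]
  have h := HopfAlgebra.mul_antipode_lTensor_comul_apply (R := k) (R i j)
  rw [hc, map_sum, map_sum] at h
  simp only [LinearMap.lTensor_tmul, LinearMap.mul'_apply] at h
  rw [he] at h
  have h2 := congrArg g h
  rw [map_sum] at h2
  simp only [map_mul, AlgHom.commutes] at h2
  refine (Finset.sum_congr rfl fun l _ => ?_).trans (h2.trans ?_)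
  · rfl
  · simp only [Matrix.one_apply]
    split_ifs <;> simp

include hc he in
theorem map_inv_mul {B : Type u} [CommRing B] [Algebra k B] (g : A →ₐ[k] B) :
    R.map (pinv g) * R.map g = 1 := by
  ext i j
  simp only [Matrix.map_apply, Matrix.mul_apply, pinv, AlgHom.comp_apply]
  have h := HopfAlgebra.mul_antipode_rTensor_comul_apply (R := k) (R i j)
  rw [hc, map_sum, map_sum] at h
  simp only [LinearMap.rTensor_tmul, LinearMap.mul'_apply] at h
  rw [he] at h
  have h2 := congrArg g h
  rw [map_sum] at h2
  simp only [map_mul, AlgHom.commutes] at h2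
  refine (Finset.sum_congr rfl fun l _ => ?_).trans (h2.trans ?_)
  · rfl
  · simp only [Matrix.one_apply]
    split_ifs <;> simp

include hc he in
theorem map_pinv_pmul {B : Type u} [CommRing B] [Algebra k B] (g h : A →ₐ[k] B) :
    R.map (pinv (pmul g h)) = R.map (pinv h) * R.map (pinv g) := by
  have h1 := map_mul_inv R hc he (pmul g h)
  rw [map_pmul R hc] at h1
  calc R.map (pinv (pmul g h))
      = (R.map (pinv h) * (R.map (pinv g) * R.map g) * R.map h) * R.map (pinv (pmul g h)) := by
        rw [map_inv_mul R hc he, mul_one, map_inv_mul R hc he, one_mul]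
    _ = R.map (pinv h) * R.map (pinv g) * (R.map g * R.map h * R.map (pinv (pmul g h))) := by
        simp only [mul_assoc]
    _ = _ := by rw [h1, mul_one]

include hc he in
theorem map_pinv_pone (B : Type u) [CommRing B] [Algebra k B] :
    R.map (pinv (pone (k := k) B)) = 1 := by
  have h1 := map_mul_inv R hc he (pone (k := k) (A := A) B)
  rwa [map_pone R he, one_mul] at h1

end Mat

end Groth.Agent.ResProp.EF.K90
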