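import Groth.Agent.ResProp.EF.K649.Pts
import Groth.Agent.ResProp.EF.K918.PtCoact
import Groth.Agent.ResProp.EF.K104.Adm
import Mathlib.Data.Matrix.Basis

/-!
# G5, node (B5), part 3: matrices with entries in a module, as a module

`mIso V B : Matrix I I V ⊗ B ≃ Matrix I I (V ⊗ B)`, `conj2 P Q X = P X Q`, `matAct ρ M g X = ρ(g) (g X) ρ(g)⁻¹` and
`matG ρ M : GMod E` on `Matrix I I M.V` with `mIso_act : mIso (g z) = matAct ρ M g (mIso z)` (flat `B`).
-/

set_option autoImplicit false

universe u

open TensorProduct WithConv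

noncomputable section

namespace Groth.Agent.ResProp.EF.K90

open Groth.Agent.ResProp.EF.Grp Groth.Agent.ResProp.EF.K104 Groth.Agent.ResProp.EF.K208 Groth.Agent.ResProp.EF.K649

attribute [local instance] K208.convGrp

variable {k : Type u} [CommRing k]

section Iso

variable (V : Type u) [AddCommGroup V] [Module k V] {I : Type} [Fintype I] [DecidableEq I]
  (B : Type u) [CommRing B] [Algebra k B]

/-- an entry, as a linear map -/
def ent (k : Type u) [CommRing k] (V : Type u) [AddCommGroup V] [Module k V] {I : Type} (a b : I) :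
    Matrix I I V →ₗ[k] V := Matrix.entryLinearMap k V a b

omit [Fintype I] [DecidableEq I] in
@[simp] theorem ent_apply (a b : I) (X : Matrix I I V) : ent k V a b X = X a b := rfl

/-- `X ⊗ b ↦ (X i j ⊗ b)` -/
def mMap : Matrix I I V ⊗[k] B →ₗ[k] Matrix I I (V ⊗[k] B) where
  toFun z := Matrix.of fun a b => (ent k V a b).rTensor B z
  map_add' x y := by ext a b; simp
  map_smul' r x := by ext a b; simp

omit [Fintype I] [DecidableEq I] in
theorem mMap_apply (z : Matrix I I V ⊗[k] B) (a b : I) :
    mMap V B z a b = (ent k V a b).rTensor B z := rfl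

omit [Fintype I] [DecidableEq I] in
theorem mMap_tmul (X : Matrix I I V) (c : B) (a b : I) :
    mMap V B (X ⊗ₜ[k] c) a b = X a b ⊗ₜ c := rfl

/-- the inverse -/
def mInv : Matrix I I (V ⊗[k] B) →ₗ[k] Matrix I I V ⊗[k] B :=
  ∑ a, ∑ b, (Matrix.singleLinearMap k a b : V →ₗ[k] Matrix I I V).rTensor B ∘ₗ ent k (V ⊗[k] B) a b

theorem mInv_apply (Y : Matrix I I (V ⊗[k] B)) :
    mInv V B Y = ∑ a, ∑ b, (Matrix.singleLinearMap k a b : V →ₗ[k] Matrix I I V).rTensor B (Y a b) := by
  simp [mInv, LinearMap.sum_apply]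

/-- `Matrix I I V ⊗ B ≃ Matrix I I (V ⊗ B)` -/
def mIso : Matrix I I V ⊗[k] B ≃ₗ[k] Matrix I I (V ⊗[k] B) :=
  LinearEquiv.ofLinearMap (mMap V B) (mInv V B)
    (by
      apply LinearMap.ext
      intro Y
      ext a b
      rw [LinearMap.comp_apply, LinearMap.id_apply, mMap_apply, mInv_apply, map_sum]
      simp_rw [map_sum]
      have h : ∀ c d : I, (ent k V a b).rTensor B
          ((Matrix.singleLinearMap k c d : V →ₗ[k] Matrix I I V).rTensor B (Y c d)) =
            if c = a ∧ d = b then Y a b else 0 := by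
        intro c d
        rw [← LinearMap.comp_apply, ← LinearMap.rTensor_comp]
        split_ifs with h
        · obtain ⟨rfl, rfl⟩ := h
          have : ent k V c d ∘ₗ (Matrix.singleLinearMap k c d : V →ₗ[k] Matrix I I V) =
              LinearMap.id := by
            ext v; simp [Matrix.singleLinearMap]
          rw [this, LinearMap.rTensor_id, LinearMap.id_apply]
        · have : ent k V a b ∘ₗ (Matrix.singleLinearMap k c d : V →ₗ[k] Matrix I I V) = 0 := by
            ext v
            simp [Matrix.singleLinearMap, h]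
          rw [this, LinearMap.rTensor_zero, LinearMap.zero_apply]
      simp_rw [h]
      rw [Finset.sum_eq_single a, Finset.sum_eq_single b]
      · simp
      · intro d _ hd; simp [hd]
      · simp
      · intro c _ hc; simp [hc]
      · simp)
    (by
      apply LinearMap.ext
      intro z
      rw [LinearMap.comp_apply, LinearMap.id_apply]
      induction z with
      | zero => simp
      | add x y hx hy => rw [map_add, map_add, hx, hy]
      | tmul X c =>
        rw [mInv_apply]
        simp_rw [mMap_tmul, LinearMap.rTensor_tmul]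
        simp_rw [← TensorProduct.sum_tmul]
        congr 1
        simp only [Matrix.singleLinearMap_apply]
        exact (Matrix.matrix_eq_sum_single X).symm)

theorem mIso_apply (z : Matrix I I V ⊗[k] B) (a b : I) :
    mIso V B z a b = (ent k V a b).rTensor B z := rfl

@[simp] theorem mIso_tmul (X : Matrix I I V) (c : B) (a b : I) :
    mIso V B (X ⊗ₜ[k] c) a b = X a b ⊗ₜ c := rfl

theorem mIso_mulB (z : Matrix I I V ⊗[k] B) (c : B) (a b : I) :
    mIso V B (mulB (Matrix I I V) B (z ⊗ₜ[k] c)) a b = mulB V B (mIso V B z a b ⊗ₜ c) := by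
  induction z with
  | zero => simp
  | add x y hx hy =>
    simp only [add_tmul, map_add, Matrix.add_apply] at hx hy ⊢
    rw [hx, hy]
  | tmul X d => simp

variable {V B}

theorem mIso_map {C : Type u} [CommRing C] [Algebra k C] (f : B →ₐ[k] C)
    (z : Matrix I I V ⊗[k] B) (a b : I) :
    mIso V C (f.toLinearMap.lTensor _ z) a b = f.toLinearMap.lTensor V (mIso V B z a b) := by
  induction z with
  | zero => simp
  | add x y hx hy =>
    simp only [map_add, Matrix.add_apply] at hx hy ⊢
    rw [hx, hy]
  | tmul X d => simp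

end Iso

section MatG

variable {E : Gp k} (T : MRep E) (M : GMod E)

/-- the action of a point on matrices, `k`-linear -/
def actL (B : Type u) [CommRing B] [Algebra k B] (g : (pts E).pt B) :
    Matrix T.I T.I (M.V ⊗[k] B) →ₗ[k] Matrix T.I T.I (M.V ⊗[k] B) where
  toFun X := conjM ((T.rho B g : (Matrix T.I T.I B)ˣ) : Matrix T.I T.I B)
    (((T.rho B g)⁻¹ : (Matrix T.I T.I B)ˣ) : Matrix T.I T.I B) (X.map (actM M.co.coact g))
  map_add' X Y := by
    rw [← conjM_add]
    congr 1
    ext a b
    simp
  map_smul' r X := by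
    ext a b
    simp only [RingHom.id_apply, Matrix.smul_apply, conjM_apply, Finset.smul_sum, Matrix.map_apply, map_smul]

theorem actL_apply (B : Type u) [CommRing B] [Algebra k B] (g : (pts E).pt B)
    (X : Matrix T.I T.I (M.V ⊗[k] B)) : actL T M B g X =
    conjM ((T.rho B g : (Matrix T.I T.I B)ˣ) : Matrix T.I T.I B)
    (((T.rho B g)⁻¹ : (Matrix T.I T.I B)ˣ) : Matrix T.I T.I B) (X.map (actM M.co.coact g)) := rfl

theorem actL_eq (B : Type u) [CommRing B] [Algebra k B] (g : (pts E).pt B)
    (X : Matrix T.I T.I (M.V ⊗[k] B)) : (matMod T M).act B g X = actL T M B g X := rfl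

theorem actL_mul (B : Type u) [CommRing B] [Algebra k B] (g h : (pts E).pt B)
    (X : Matrix T.I T.I (M.V ⊗[k] B)) : actL T M B (g * h) X = actL T M B g (actL T M B h X) :=
  (matMod T M).act_mul B g h X

theorem actL_one (B : Type u) [CommRing B] [Algebra k B]
    (X : Matrix T.I T.I (M.V ⊗[k] B)) : actL T M B 1 X = X :=
  (matMod T M).act_one B X

theorem actL_nat {B C : Type u} [CommRing B] [Algebra k B] [CommRing C] [Algebra k C] (f : B →ₐ[k] C)
    (g : (pts E).pt B) (X : Matrix T.I T.I (M.V ⊗[k] B)) :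
    (actL T M B g X).map (f.toLinearMap.lTensor M.V) =
      actL T M C ((pts E).map f g) (X.map (f.toLinearMap.lTensor M.V)) :=
  (matMod T M).act_nat f g X

theorem actL_rmul (B : Type u) [CommRing B] [Algebra k B] (g : (pts E).pt B) (b : B)
    (X : Matrix T.I T.I (M.V ⊗[k] B)) :
    actL T M B g (X.map (rmul M.V b)) = (actL T M B g X).map (rmul M.V b) := by
  ext i j
  rw [actL_apply, actL_apply, Matrix.map_apply, conjM_apply, conjM_apply]
  simp only [map_sum]
  refine Finset.sum_congr rfl fun c _ => Finset.sum_congr rfl fun d _ => ?_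
  rw [Matrix.map_apply, Matrix.map_apply, Matrix.map_apply]
  exact (congrArg _ (actM_rmul M.co.coact (g : WithConv (E.O →ₐ[k] B)) b (X c d))).trans (rmul_comm _ _ _)

/-- the action of a point on `Matrix I I M.V ⊗ B` -/
def sig (B : Type u) [CommRing B] [Algebra k B] (g : E.O →ₐ[k] B) :
    Matrix T.I T.I M.V ⊗[k] B →ₗ[k] Matrix T.I T.I M.V ⊗[k] B :=
  (mIso M.V B).symm.toLinearMap ∘ₗ actL T M B (mkPt E g) ∘ₗ (mIso M.V B).toLinearMap

theorem mIso_sig (B : Type u) [CommRing B] [Algebra k B] (g : E.O →ₐ[k] B)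
    (z : Matrix T.I T.I M.V ⊗[k] B) :
    mIso M.V B (sig T M B g z) = actL T M B (mkPt E g) (mIso M.V B z) := by
  change mIso M.V B ((mIso M.V B).symm _) = _
  rw [LinearEquiv.apply_symm_apply]
  rfl

theorem mIso_rmul (V : Type u) [AddCommGroup V] [Module k V] {I : Type} [Fintype I] [DecidableEq I]
    (B : Type u) [CommRing B] [Algebra k B] (z : Matrix I I V ⊗[k] B) (c : B) :
    mIso V B (K458.Coch.mulB (Matrix I I V) (z ⊗ₜ[k] c)) = (mIso V B z).map (rmul V c) := by
  ext a b
  rw [Matrix.map_apply, ← mulB_eq]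
  exact mIso_mulB V B z c a b

theorem mIso_map' {V : Type u} [AddCommGroup V] [Module k V] {I : Type} [Fintype I] [DecidableEq I]
    {B : Type u} [CommRing B] [Algebra k B] {C : Type u} [CommRing C] [Algebra k C] (f : B →ₐ[k] C)
    (z : Matrix I I V ⊗[k] B) :
    mIso V C (f.toLinearMap.lTensor _ z) = (mIso V B z).map (f.toLinearMap.lTensor V) := by
  ext a b
  exact mIso_map f z a b

/-- the action of points on `Matrix I I M.V` -/
def matPt : K918.PtAct k E.O (Matrix T.I T.I M.V) where
  σ B _ _ g := sig T M B g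
  lin B _ _ _ g w b := by
    apply (mIso M.V B).injective
    rw [mIso_sig, mIso_rmul, mIso_rmul, mIso_sig, actL_rmul]
  nat B B' _ _ _ _ _ _ φ g w := by
    apply (mIso M.V B').injective
    rw [mIso_map', mIso_sig, mIso_sig, actL_nat, mIso_map']
    rfl
  mul B _ _ _ g h w := by
    apply (mIso M.V B).injective
    rw [mIso_sig, mIso_sig, mIso_sig, ← actL_mul, ← mkPt_pmul]
    rfl
  one B _ _ _ w := by
    apply (mIso M.V B).injective
    rw [mIso_sig]
    exact actL_one T M B _

/-- **matrices with entries in `M`** as a module -/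
def matG : GMod E where
  V := Matrix T.I T.I M.V
  co := (matPt T M).comod

theorem matG_coact (X : Matrix T.I T.I M.V) :
    (matG T M).co.coact X = sig T M E.O (AlgHom.id k E.O) (X ⊗ₜ 1) := rfl

/-- **the iso is equivariant** -/
theorem mIso_act {B : Type u} [CommRing B] [Algebra k B] [Module.Flat k B] (g : (pts E).pt B)
    (z : (matG T M).V ⊗[k] B) :
    mIso M.V B (actM (matG T M).co.coact g z) = actL T M B g (mIso M.V B z) := by
  have h := (matPt T M).act_rho (WithConv.ofConv g) z
  have h2 : actM (matG T M).co.coact g z = sig T M B (WithConv.ofConv g) z := h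
  rw [h2]
  exact mIso_sig T M B (WithConv.ofConv g) z

end MatG

end Groth.Agent.ResProp.EF.K90
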