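import Groth.Agent.ResProp.EF.K90.Theta
import Groth.Agent.ResProp.EF.K226.KapG
import Groth.Agent.ResProp.EF.K778.TowerMod

/-!
# G5, node (B5), part 5: every lattice is a twist
-/

set_option autoImplicit false

universe u

open TensorProduct WithConv

noncomputable section

namespace Groth.Agent.ResProp.EF.K90

open Groth.Agent.ResProp.EF.Grp Groth.Agent.ResProp.EF.K104 Groth.Agent.ResProp.EF.K208 Groth.Agent.ResProp.EF.K649

attribute [local instance] K208.convGrp

variable {k : Type u} [CommRing k] {E : Gp k}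

/-- a lattice has a basis indexed by some `Fin (n + 1)` -/
theorem exists_basis (T' : GMod E) (hT : IsLat T') :
    ∃ n : ℕ, Nonempty (Fin n) ∧ Nonempty (Module.Basis (Fin n) k T'.V) := by
  have := hT.free
  have := hT.fin
  have := hT.nontriv
  let b0 := Module.Free.chooseBasis k T'.V
  let b := b0.reindex (Fintype.equivFin (Module.Free.ChooseBasisIndex k T'.V))
  refine ⟨_, ?_, ⟨b⟩⟩
  by_contra h
  rw [not_nonempty_iff] at h
  have : Subsingleton T'.V := b.repr.toEquiv.subsingleton
  exact not_subsingleton T'.V this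

/-- **(B5)** every lattice with a structure on `End` is a twist, compatibly with `θ`. -/
theorem exists_tw (T' : GMod E) (hT : IsLat T') (e : EndStr T') (T : MRep E) (M : GMod E) :
    ∃ (t : MRep E) (φ : ((matG T M).tens e.mod).V →ₗ[k] (matG (T.mul t) M).V),
      @Hoch.IsComodHom k _ E.O _ _ _ ((matG T M).tens e.mod).V _ _ ((matG T M).tens e.mod).co
        (matG (T.mul t) M).V _ _ (matG (T.mul t) M).co φ ∧
      ∀ (B : Type u) [CommRing B] [Algebra k B] (x : (matG T M).V ⊗[k] B),
        (theta T t M).app B (isoF T M B x) =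
          isoF (T.mul t) M B ((φ ∘ₗ tmulR (matG T M) e.mod 1).rTensor B x) := by
  obtain ⟨n, hn, ⟨b⟩⟩ := exists_basis T' hT
  exact ⟨K226.mrepOf T' b, K226.kapG T M T' b e, K226.kapG_hom T M T' b e,
    fun B _ _ x => K226.kapG_one T M T' b e B x⟩

end Groth.Agent.ResProp.EF.K90
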