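import Groth.Agent.ResProp.EF.K341.Dat
import Groth.Agent.ResProp.EF.K86.VOmega
import Groth.Agent.ResProp.EF.K741.ComodAb

/-!
# The graded pieces of a family of models as a cartesian module over `D` (seam W3, GrPM)

`Y : AffOver A`, `w a : ι → Ω[D⟨a⟩/A⟨a⟩]` a natural family, `m a` a model of `D⟨a⟩` over `A⟨a⟩` with differentials in
`ι → D⟨a⟩`.  `grPM : PM Y.D`, `grPM.obj a = (m a).gr n`, cartesian.
-/

set_option autoImplicit false
set_option linter.dupNamespace false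
set_option linter.style.haveILetI false

open CategoryTheory Opposite

noncomputable section

namespace Groth.Agent.ResProp.EF.K90

open K784.BC K784.PM K741.RP EF56 Groth.Agent.ResProp.EF.Arch Groth.Agent.ResProp.EF.K863 Groth.Agent.ResProp.EF.K341
  Groth.Agent.ResProp.EF.K86 K477 Groth.Agent.ResProp.EF.K741

universe u

variable {A : NFᵒᵖ ⥤ CommRingCat.{u}} (Y : AffOver A) {ι : Type} [Fintype ι] [DecidableEq ι]

/-- the square of an arrow -/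
theorem sqY {a b : NF} (φ : a ⟶ b) : Sq (A.obj (op b)) (Y.D.obj (op b)) (R₁ := A.obj (op a)) (D₁ := Y.D.obj (op a))
    (rg A φ) (rg Y.D φ) := ⟨fun r => congr($(Y.j.naturality φ.op).hom r).symm⟩

/-- base change along an arrow of the algebra `D` -/
theorem isBC_D {a b : NF} (φ : a ⟶ b) : IsBC (rg A φ) (rg Y.D φ).toAddMonoidHom := by
  have h0 : IsBC (rg Y.D φ) (rg Y.D φ).toAddMonoidHom := by
    refine IsBC.of_lift (fun a m => (rg Y.D φ).map_mul a m) (fun Q _ _ g hg => ?_)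
    refine ⟨(LinearMap.toSpanSingleton _ Q (g 1)), fun m => ?_, fun g' hg' => ?_⟩
    · change rg Y.D φ m • g 1 = g m
      rw [← hg, smul_eq_mul, mul_one]
    · ext
      rw [LinearMap.toSpanSingleton_apply, one_smul, ← hg']
      exact congrArg g' (map_one (rg Y.D φ)).symm
  exact IsBC.of_po (Y.cart φ) (fun r m => rfl) (fun r m => rfl) h0

/-- natural families of differentials and models -/
structure MFam (ι : Type) [Fintype ι] [DecidableEq ι] where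
  /-- the differentials -/
  w : ∀ a : NF, ι → Ω[Y.D.obj (op a)⁄A.obj (op a)]
  hom : ∀ {a b : NF} (φ : a ⟶ b), MHom (w b) (w a) (rg A φ) (rg Y.D φ) 1
  /-- the models -/
  m : ∀ a : NF, Model (A.obj (op a)) (Y.D.obj (op a)) (ι → Y.D.obj (op a)) (rhoI (w a))

variable {Y}

namespace MFam

variable (F : MFam Y ι)

/-- **the graded pieces as a module over `D`** -/
@[reducible] def grPM (n : ℕ) : PM.{u} Y.D where
  obj a := (F.m a).gr n
  grp a := inferInstance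
  mod a := inferInstance
  map {a b} φ := (F.hom φ).gr (F.m b) (F.m a) n
  map_smul φ r v := MHom.gr_smul (F.hom φ) _ _ n r v
  map_id a v := MHom.gr_id (F.hom (𝟙 a)) (rg_id A a) (fun d => congr($(rg_id Y.D a) d))
    (fun i j => Matrix.one_apply) _ n v
  map_comp {a b c} ψ φ v := MHom.gr_comp (F.hom ψ) (F.hom φ) (F.hom (ψ ≫ φ)) (rg_comp A ψ φ)
    (fun d => congr($(rg_comp Y.D ψ φ) d)) (fun i j => by
      rw [Finset.sum_eq_single i]
      · rw [Matrix.one_apply_eq, one_mul, Matrix.one_apply, Matrix.one_apply]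
        split_ifs <;> simp
      · intro l _ hl
        rw [Matrix.one_apply_ne (Ne.symm hl), zero_mul]
      · intro h; exact absurd (Finset.mem_univ i) h) _ _ _ n v

theorem grPM_cart (hA : GR A) (n : ℕ) : (F.grPM n).Cart := by
  refine cart_of_pt _ fun a i => ?_
  have hf : (rg A (pt a i)).Flat := (ff_pt hA a i).flat
  exact IsBC.to_po (Y.cart (pt a i)) (fun r v => gr_rsmul _ n r v) (fun r v => gr_rsmul _ n r v)
    (fun r v => MHom.gr_smul (F.hom (pt a i)) _ _ n r v)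
    (MHom.isBC_gr (F.hom (pt a i)) hf (isBC_D Y (pt a i)) _ _ n)

end MFam

/-! ### existence -/

section Exists

variable (Y)

/-- the differentials of the family -/
def wOf (ω : ι → Ω[Y.D.obj (op ⟨0⟩)⁄A.obj (op ⟨0⟩)]) : ∀ a : NF, ι → Ω[Y.D.obj (op a)⁄A.obj (op a)]
  | ⟨0⟩ => ω
  | ⟨n + 1⟩ => fun i => om (sqY Y (pt ⟨n + 1⟩ 0)) (ω i)

variable {Y}

theorem om_comp' {a b c : NF} (ψ : a ⟶ b) (φ : b ⟶ c) (v : Ω[Y.D.obj (op c)⁄A.obj (op c)]) :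
    om (sqY Y (ψ ≫ φ)) v = om (sqY Y ψ) (om (sqY Y φ) v) := by
  rw [← om_comp (sqY Y ψ) (sqY Y φ) ((sqY Y ψ).comp (sqY Y φ))]
  exact om_congr _ _ (fun d => congr($(rg_comp Y.D ψ φ) d)) v

theorem om_id' {a : NF} (φ : a ⟶ a) (h : φ = 𝟙 a) (v : Ω[Y.D.obj (op a)⁄A.obj (op a)]) :
    om (sqY Y φ) v = v := by
  subst h
  rw [om_congr (sqY Y (𝟙 a)) Sq.id (fun d => congr($(rg_id Y.D a) d)), om_id]

theorem pt_zero : pt ⟨0⟩ 0 = 𝟙 (⟨0⟩ : NF) := by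
  funext i
  exact Subsingleton.elim (α := Fin 1) _ _

omit [Fintype ι] [DecidableEq ι] in
theorem wOf_eq (ω : ι → Ω[Y.D.obj (op ⟨0⟩)⁄A.obj (op ⟨0⟩)]) (a : NF) (i : ι) :
    wOf Y ω a i = om (sqY Y (pt a 0)) (ω i) := by
  rcases a with ⟨n⟩
  cases n with
  | zero => exact (om_id' _ pt_zero (ω i)).symm
  | succ n => rfl

omit [Fintype ι] [DecidableEq ι] in
/-- the values of an invariant family at the vertices of a level agree -/
theorem om_pt {ω : ι → Ω[Y.D.obj (op ⟨0⟩)⁄A.obj (op ⟨0⟩)]}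
    (hω : ∀ i, om (sqY Y (pr ⟨0⟩)) (ω i) = om (sqY Y (lst ⟨0⟩)) (ω i)) {a : NF} (f g : a ⟶ ⟨0⟩) (i : ι) :
    om (sqY Y f) (ω i) = om (sqY Y g) (ω i) := by
  have e1 : f = lft f g ≫ pr ⟨0⟩ := (lft_pr f g).symm
  have e2 : g = lft f g ≫ lst ⟨0⟩ := (lft_lst f g).symm
  generalize lft f g = e at e1 e2
  subst e1 e2
  exact (om_comp' e (pr ⟨0⟩) (ω i)).trans ((congrArg _ (hω i)).trans (om_comp' e (lst ⟨0⟩) (ω i)).symm)

/-- the arrows of the family -/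
theorem hom_wOf {ω : ι → Ω[Y.D.obj (op ⟨0⟩)⁄A.obj (op ⟨0⟩)]}
    (hω : ∀ i, om (sqY Y (pr ⟨0⟩)) (ω i) = om (sqY Y (lst ⟨0⟩)) (ω i)) {a b : NF} (φ : a ⟶ b) :
    MHom (wOf Y ω b) (wOf Y ω a) (rg A φ) (rg Y.D φ) 1 where
  sq := sqY Y φ
  rel i := by
    rw [wOf_eq, ← om_comp', om_pt hω _ (pt a 0), Finset.sum_eq_single i]
    · rw [Matrix.one_apply_eq, one_smul, wOf_eq]
    · intro l _ hl
      rw [Matrix.one_apply_ne hl, zero_smul]
    · intro h; exact absurd (Finset.mem_univ i) h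

/-- the models of the family -/
def mOf {ω : ι → Ω[Y.D.obj (op ⟨0⟩)⁄A.obj (op ⟨0⟩)]}
    (hω : ∀ i, om (sqY Y (pr ⟨0⟩)) (ω i) = om (sqY Y (lst ⟨0⟩)) (ω i))
    (m : Model (A.obj (op ⟨0⟩)) (Y.D.obj (op ⟨0⟩)) (ι → Y.D.obj (op ⟨0⟩)) (rhoI ω)) :
    ∀ a : NF, Model (A.obj (op a)) (Y.D.obj (op a)) (ι → Y.D.obj (op a)) (rhoI (wOf Y ω a))
  | ⟨0⟩ => m
  | ⟨n + 1⟩ => Classical.choice ((hom_wOf hω (pt ⟨n + 1⟩ 0)).exists_model (isBC_D Y _) m)

/-- **the family of an invariant `ω` and a model `m` at level `0`** -/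
def mfam {ω : ι → Ω[Y.D.obj (op ⟨0⟩)⁄A.obj (op ⟨0⟩)]}
    (hω : ∀ i, om (sqY Y (pr ⟨0⟩)) (ω i) = om (sqY Y (lst ⟨0⟩)) (ω i))
    (m : Model (A.obj (op ⟨0⟩)) (Y.D.obj (op ⟨0⟩)) (ι → Y.D.obj (op ⟨0⟩)) (rhoI ω)) : MFam Y ι where
  w := wOf Y ω
  hom φ := hom_wOf hω φ
  m := mOf hω m

example {ω : ι → Ω[Y.D.obj (op ⟨0⟩)⁄A.obj (op ⟨0⟩)]}
    (hω : ∀ i, om (sqY Y (pr ⟨0⟩)) (ω i) = om (sqY Y (lst ⟨0⟩)) (ω i))
    (m : Model (A.obj (op ⟨0⟩)) (Y.D.obj (op ⟨0⟩)) (ι → Y.D.obj (op ⟨0⟩)) (rhoI ω)) :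
  (mfam hω m).w ⟨0⟩ = ω := rfl

example {ω : ι → Ω[Y.D.obj (op ⟨0⟩)⁄A.obj (op ⟨0⟩)]}
    (hω : ∀ i, om (sqY Y (pr ⟨0⟩)) (ω i) = om (sqY Y (lst ⟨0⟩)) (ω i))
    (m : Model (A.obj (op ⟨0⟩)) (Y.D.obj (op ⟨0⟩)) (ι → Y.D.obj (op ⟨0⟩)) (rhoI ω)) :
  (mfam hω m).m ⟨0⟩ = m := rfl

end Exists

end Groth.Agent.ResProp.EF.K90
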