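import Groth.Agent.ResProp.EF.K341.Dat
import Groth.Agent.ResProp.EF.K86.VOmega
import Groth.Agent.ResProp.EF.K90.GrPM

/-!
# The coaction on the differentials as a map of data (W3b, input of GrCo)

`inc : D → D ⊗ O`, `ρ : D → D ⊗ O`; if `coact (w l) = ∑ m, w m ⊗ C m l` then `ρ` is a map of data with matrix `1 ⊗ C`.
-/

set_option autoImplicit false
set_option linter.dupNamespace false
set_option linter.style.haveILetI false

open CategoryTheory Opposite TensorProduct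

noncomputable section

namespace Groth.Agent.ResProp.EF.K90

open K784.BC K784.PM K741.RP EF56 Groth.Agent.ResProp.EF.Arch Groth.Agent.ResProp.EF.K863 Groth.Agent.ResProp.EF.K341
  Groth.Agent.ResProp.EF.K86

universe u

variable {k : Type u} [CommRing k] {A : NFᵒᵖ ⥤ CommRingCat.{u}} [GRF k A] {x : PrimeSpectrum (A.obj (op ⟨0⟩))}
  (c : CoverDatum k A x) (a : NF) [Algebra (A.obj (op a) ⊗[k] c.H.O) (c.Y.D.obj (op a) ⊗[k] c.H.O)]
  (halg : ∀ (r : A.obj (op a)) (o : c.H.O),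
    algebraMap (A.obj (op a) ⊗[k] c.H.O) (c.Y.D.obj (op a) ⊗[k] c.H.O) (r ⊗ₜ o) =
      algebraMap (A.obj (op a)) (c.Y.D.obj (op a)) r ⊗ₜ o)

include halg

/-- the square of `r ↦ r ⊗ 1` -/
theorem sqInc : Sq (A.obj (op a)) (c.Y.D.obj (op a))
    (Algebra.TensorProduct.includeLeftRingHom : A.obj (op a) →+* A.obj (op a) ⊗[k] c.H.O)
    (Algebra.TensorProduct.includeLeftRingHom : c.Y.D.obj (op a) →+* c.Y.D.obj (op a) ⊗[k] c.H.O) :=
  ⟨fun r => (halg r 1).symm⟩

/-- the square of the coaction -/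
theorem sqCo : Sq (A.obj (op a)) (c.Y.D.obj (op a))
    (Algebra.TensorProduct.includeLeftRingHom : A.obj (op a) →+* A.obj (op a) ⊗[k] c.H.O)
    ((c.ρ a).ρ : c.Y.D.obj (op a) →+* c.Y.D.obj (op a) ⊗[k] c.H.O) :=
  ⟨fun r => (c.ρ_lin a r).trans (halg r 1).symm⟩

/-- the map of differentials of `d ↦ d ⊗ 1` -/
def oI : (omPM c.Y.j).obj a →+ Ω[c.Y.D.obj (op a) ⊗[k] c.H.O⁄A.obj (op a) ⊗[k] c.H.O] := K341.om (sqInc c a halg)

theorem oI_smul (d : c.Y.D.obj (op a)) (w : (omPM c.Y.j).obj a) :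
    oI c a halg (d • w) = (d ⊗ₜ[k] (1 : c.H.O)) • oI c a halg w := om_smul (sqInc c a halg) d w

theorem oI_d (d : c.Y.D.obj (op a)) : oI c a halg (omd c.Y.j a d) =
    KaehlerDifferential.D (A.obj (op a) ⊗[k] c.H.O) _ (d ⊗ₜ[k] (1 : c.H.O)) := om_D (sqInc c a halg) d

/-- `w ⊗ s ↦ (1 ⊗ s) • inc w` -/
def TO : letI := omk c a
    (omPM c.Y.j).obj a ⊗[k] c.H.O →+ Ω[c.Y.D.obj (op a) ⊗[k] c.H.O⁄A.obj (op a) ⊗[k] c.H.O] :=
  letI := omk c a
  TensorProduct.liftAddHom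
    (AddMonoidHom.mk' (fun w => AddMonoidHom.mk' (fun s => ((1 : c.Y.D.obj (op a)) ⊗ₜ[k] s) • oI c a halg w)
      (fun s t => by rw [TensorProduct.tmul_add, add_smul])) (fun w w' => AddMonoidHom.ext fun s => by
        change ((1 : c.Y.D.obj (op a)) ⊗ₜ[k] s) • oI c a halg (w + w') =
          ((1 : c.Y.D.obj (op a)) ⊗ₜ[k] s) • oI c a halg w + ((1 : c.Y.D.obj (op a)) ⊗ₜ[k] s) • oI c a halg w'
        rw [map_add, smul_add]))
    (fun r w s => by
      change ((1 : c.Y.D.obj (op a)) ⊗ₜ[k] s) • oI c a halg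
        (algebraMap k (c.Y.D.obj (op a)) r • w) = ((1 : c.Y.D.obj (op a)) ⊗ₜ[k] (r • s)) • oI c a halg w
      rw [oI_smul, smul_smul]
      congr 1
      rw [Algebra.TensorProduct.tmul_mul_tmul, one_mul, mul_one, TensorProduct.tmul_smul, TensorProduct.smul_tmul',
        Algebra.algebraMap_eq_smul_one])

theorem TO_tmul (w : (omPM c.Y.j).obj a) (s : c.H.O) : letI := omk c a
    TO c a halg (w ⊗ₜ[k] s) = ((1 : c.Y.D.obj (op a)) ⊗ₜ[k] s) • oI c a halg w := rfl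

theorem TO_om (u v : c.Y.D.obj (op a) ⊗[k] c.H.O) : letI := omk c a; haveI := omk_tower c a
    TO c a halg (K86.om (isKD_om c.Y.j a) (omk_hk c a) c.H.O u v) = u • KaehlerDifferential.D _ _ v := by
  letI := omk c a
  haveI := omk_tower c a
  induction u with
  | zero => rw [map_zero, LinearMap.zero_apply, map_zero, zero_smul]
  | add x y hx hy => rw [map_add, LinearMap.add_apply, map_add, hx, hy, add_smul]
  | tmul b s =>
    induction v with
    | zero => rw [map_zero, map_zero, map_zero, smul_zero]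
    | add x y hx hy => rw [map_add, map_add, map_add, hx, hy, smul_add]
    | tmul d t =>
      have h0 : algebraMap (A.obj (op a) ⊗[k] c.H.O) (c.Y.D.obj (op a) ⊗[k] c.H.O) ((1 : A.obj (op a)) ⊗ₜ[k] t) =
          (1 : c.Y.D.obj (op a)) ⊗ₜ[k] t := by rw [halg, map_one]
      have h1 : KaehlerDifferential.D (A.obj (op a) ⊗[k] c.H.O) (c.Y.D.obj (op a) ⊗[k] c.H.O) (d ⊗ₜ[k] t) =
          ((1 : c.Y.D.obj (op a)) ⊗ₜ[k] t) • KaehlerDifferential.D (A.obj (op a) ⊗[k] c.H.O) _ (d ⊗ₜ[k] (1 : c.H.O)) := by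
        rw [← h0, algebraMap_smul, ← Derivation.map_smul, Algebra.smul_def, h0, Algebra.TensorProduct.tmul_mul_tmul,
          one_mul, mul_one]
      rw [om_tmul, TO_tmul, oI_smul, oI_d, h1, smul_smul, smul_smul,
        Algebra.TensorProduct.tmul_mul_tmul, Algebra.TensorProduct.tmul_mul_tmul, one_mul, mul_one, mul_one]

/-- the coaction on the differentials in terms of the squares -/
theorem om_co (w : (omPM c.Y.j).obj a) : letI := omk c a
    K341.om (sqCo c a halg) w = TO c a halg ((omC c a).coact w) := by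
  letI := omk c a
  haveI := omk_tower c a
  induction w using (isKD_om c.Y.j a).induction with
  | zero => rw [map_zero, map_zero]; exact map_zero _
  | add x y hx hy => rw [map_add, map_add, ← hx, ← hy]; exact map_add _ _ _
  | smul_d b y =>
    have h1 : (omC c a).coact (b • omd c.Y.j a y) = K86.om (isKD_om c.Y.j a) (omk_hk c a) c.H.O ((c.ρ a).ρ b) ((c.ρ a).ρ y) :=
      coactKD_smul_d (isKD_om c.Y.j a) (omk_hk c a) (c.ρ a) (c.ρ_lin a) b y
    rw [h1, TO_om]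
    exact (om_smul _ _ _).trans (congrArg _ (om_D _ y))

variable {ι : Type} [Fintype ι] [DecidableEq ι]

omit [DecidableEq ι] in
theorem TO_sum (w : ι → (omPM c.Y.j).obj a) (C : ι → c.H.O) : letI := omk c a
    TO c a halg (∑ m, w m ⊗ₜ[k] C m) = ∑ m, ((1 : c.Y.D.obj (op a)) ⊗ₜ[k] C m) • oI c a halg (w m) := by
  letI := omk c a
  rw [map_sum]
  rfl

/-- the family after base change to `O` -/
def wO (w : ι → Ω[c.Y.D.obj (op a)⁄A.obj (op a)]) : ι → Ω[c.Y.D.obj (op a) ⊗[k] c.H.O⁄A.obj (op a) ⊗[k] c.H.O] :=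
  fun l => K341.om (sqInc c a halg) (w l)

/-- **`d ↦ d ⊗ 1` is a map of data with matrix `1`** -/
theorem mhomInc (w : ι → Ω[c.Y.D.obj (op a)⁄A.obj (op a)]) : MHom w (wO c a halg w)
    (Algebra.TensorProduct.includeLeftRingHom : A.obj (op a) →+* A.obj (op a) ⊗[k] c.H.O)
    (Algebra.TensorProduct.includeLeftRingHom : c.Y.D.obj (op a) →+* c.Y.D.obj (op a) ⊗[k] c.H.O) 1 where
  sq := sqInc c a halg
  rel i := by
    rw [Finset.sum_eq_single i]
    · rw [Matrix.one_apply_eq, one_smul]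
      rfl
    · intro l _ hl
      rw [Matrix.one_apply_ne hl, zero_smul]
    · intro h; exact absurd (Finset.mem_univ i) h

omit [DecidableEq ι] in
/-- **the coaction is a map of data with matrix `1 ⊗ C`** -/
theorem mhomCo (w : ι → Ω[c.Y.D.obj (op a)⁄A.obj (op a)]) (C : Matrix ι ι c.H.O)
    (hco : letI := omk c a; ∀ l, (omC c a).coact (w l) = ∑ m, (w m : (omPM c.Y.j).obj a) ⊗ₜ[k] C m l) :
    MHom w (wO c a halg w)
    (Algebra.TensorProduct.includeLeftRingHom : A.obj (op a) →+* A.obj (op a) ⊗[k] c.H.O)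
    ((c.ρ a).ρ : c.Y.D.obj (op a) →+* c.Y.D.obj (op a) ⊗[k] c.H.O)
    (Matrix.of fun m l => (1 : c.Y.D.obj (op a)) ⊗ₜ[k] C m l) where
  sq := sqCo c a halg
  rel i := by
    letI := omk c a
    exact (om_co c a halg (w i)).trans ((congrArg (TO c a halg) (hco i)).trans
      (TO_sum c a halg w fun m => C m i))

omit halg [Algebra (A.obj (op a) ⊗[k] c.H.O) (c.Y.D.obj (op a) ⊗[k] c.H.O)]

/-- the maps of the differentials are those of 341's squares -/
theorem om_sqY {a b : NF} (φ : a ⟶ b) (v : (omPM c.Y.j).obj b) :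
    K341.om (sqY c.Y φ) v = (omPM c.Y.j).map φ v := by
  have h := om_unique (sqY c.Y φ) (σ := (omPM c.Y.j).map φ) (fun d v => (omPM c.Y.j).map_smul φ d v)
    (fun d => omPM_map_d c.Y.j φ d)
  exact (congrArg (fun f => f v) h).symm

omit [Fintype ι] [DecidableEq ι] in
theorem wOf_omPM (ω : ι → Ω[c.Y.D.obj (op ⟨0⟩)⁄A.obj (op ⟨0⟩)]) (i : ι) :
    wOf c.Y ω a i = (omPM c.Y.j).map (pt a 0) (ω i) := (wOf_eq ω a i).trans (om_sqY c (pt a 0) (ω i))

omit [DecidableEq ι] in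
/-- the coaction at every level has the same matrix -/
theorem coact_wOf (ω : ι → Ω[c.Y.D.obj (op ⟨0⟩)⁄A.obj (op ⟨0⟩)]) (C : Matrix ι ι c.H.O)
    (hco : letI := omk c ⟨0⟩; ∀ l, (omC c ⟨0⟩).coact (ω l) = ∑ m, (ω m : (omPM c.Y.j).obj ⟨0⟩) ⊗ₜ[k] C m l) :
    letI := omk c a; ∀ l, (omC c a).coact (wOf c.Y ω a l) = ∑ m, (wOf c.Y ω a m : (omPM c.Y.j).obj a) ⊗ₜ[k] C m l := by
  letI := omk c a
  letI := omk c ⟨0⟩
  intro l
  have h1 := omMap_equi c (pt a 0) (ω l)
  have h2 : ∀ m, (wOf c.Y ω a m : (omPM c.Y.j).obj a) = omMap c (pt a 0) (ω m) := fun m => wOf_omPM c a ω m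
  have h3 : ∀ w : ι → (omPM c.Y.j).obj ⟨0⟩, (omMap c (pt a 0)).rTensor c.H.O (∑ m, w m ⊗ₜ[k] C m l) =
      ∑ m, omMap c (pt a 0) (w m) ⊗ₜ[k] C m l := fun w => by
    rw [map_sum]
    rfl
  refine (congrArg _ (h2 l)).trans (h1.trans ((congrArg _ (hco l)).trans ((h3 ω).trans ?_)))
  exact Finset.sum_congr rfl fun m _ => (congrArg (fun t : (omPM c.Y.j).obj a => t ⊗ₜ[k] C m l) (h2 m)).symm

end Groth.Agent.ResProp.EF.K90
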