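import Groth.Agent.ResProp.EF.K90.GrCover
import Groth.Agent.ResProp.EF.K86.MatCo

/-!
# The generators of the graded pieces in coordinates
-/

set_option autoImplicit false
set_option linter.dupNamespace false
set_option linter.style.haveILetI false

open CategoryTheory Opposite TensorProduct

noncomputable section

namespace Groth.Agent.ResProp.EF.K90

open K784.BC K784.PM K741.RP EF56 Groth.Agent.ResProp.EF.Arch Groth.Agent.ResProp.EF.K863 Groth.Agent.ResProp.EF.K341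
  Groth.Agent.ResProp.EF.K86 K477 Groth.Agent.ResProp.EF.K741 Grp

universe u

variable {k : Type u} [CommRing k] {A : NFᵒᵖ ⥤ CommRingCat.{u}} [GRF k A] {x : PrimeSpectrum (A.obj (op ⟨0⟩))}
  (c : CoverDatum k A x) {ι : Type} [Fintype ι] [DecidableEq ι]

/-- **generators of `gr n` in coordinates**: `u i ∈ Fil n`, coaction by the matrix `M`, `Γ`-invariant classes which generate
`gr n` over `D`. -/
theorem exists_grU [IsNoetherianRing (A.obj (op ⟨0⟩))] (hSC : SerreCover c.H) (F : MFam c.Y ι) (n : ℕ)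
    (co0 : HopfRep.Comod k c.H.O ((F.m ⟨0⟩).gr n)) (co1 : HopfRep.Comod k c.H.O ((F.m ⟨1⟩).gr n))
    (hp : ∀ z, co1.coact (grMap c F n (pr ⟨0⟩) z) = (grMap c F n (pr ⟨0⟩)).rTensor c.H.O (co0.coact z))
    (hq : ∀ z, co1.coact (grMap c F n (lst ⟨0⟩) z) = (grMap c F n (lst ⟨0⟩)).rTensor c.H.O (co0.coact z)) :
    ∃ (r : ℕ) (u : Fin r → (F.m ⟨0⟩).Fil n) (M : Matrix (Fin r) (Fin r) c.H.O),
      (∀ l, co0.coact ((F.m ⟨0⟩).toGr n (u l)) = ∑ m, (F.m ⟨0⟩).toGr n (u m) ⊗ₜ[k] M m l) ∧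
      (∀ l, (F.hom (pr ⟨0⟩)).gr (F.m ⟨0⟩) (F.m ⟨1⟩) n ((F.m ⟨0⟩).toGr n (u l)) =
        (F.hom (lst ⟨0⟩)).gr (F.m ⟨0⟩) (F.m ⟨1⟩) n ((F.m ⟨0⟩).toGr n (u l))) ∧
      (∀ i j, Coalgebra.comul (R := k) (M i j) = ∑ l, M i l ⊗ₜ[k] M l j) ∧
      (∀ i j, Coalgebra.counit (R := k) (M i j) = if i = j then 1 else 0) ∧
      Submodule.span (c.Y.D.obj (op ⟨0⟩)) (Set.range fun l => (F.m ⟨0⟩).toGr n (u l)) = ⊤ := by
  obtain ⟨V, hfree, hfinV, f, hf1, hf2, hf3⟩ := exists_grCover c hSC F n co0 co1 hp hq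
  haveI : IsScalarTower k (c.Y.D.obj (op ⟨0⟩)) ((F.m ⟨0⟩).gr n) := IsScalarTower.of_algebraMap_smul fun r z =>
    (gr_ksmul (F.m ⟨0⟩) n r z).symm
  obtain ⟨r, w, M, h1, h2, h3, h4, h5⟩ := exists_basis_of (R := c.Y.D.obj (op ⟨0⟩)) V co0 f hf1 hf3
    (fun z => grMap c F n (pr ⟨0⟩) z = grMap c F n (lst ⟨0⟩) z) hf2
  choose u hu using fun l => (F.m ⟨0⟩).toGr_surjective n (w l)
  obtain rfl : (fun l => (F.m ⟨0⟩).toGr n (u l)) = w := funext hu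
  exact ⟨r, u, M, h1, h2, h3, h4, h5⟩

end Groth.Agent.ResProp.EF.K90
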