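import Groth.Agent.ResProp.EF.Grp
import Groth.Agent.ResProp.EF.K104.MatRep

/-!
# G5, node (B5), part 1: the matrix of a comodule with a finite basis

`rmat b` : the matrix coefficients of a comodule with basis `b`; multiplicative on points; the matrix of the coaction of
`End T` is `R * M * R⁻¹`.
-/

set_option autoImplicit false

universe u v w

open TensorProduct

namespace Groth.Agent.ResProp.EF.K90

open K104

section Basic

variable {k : Type u} [CommRing k] {A : Type v} [CommRing A] [Bialgebra k A]
variable {V : Type w} [AddCommGroup V] [Module k V] [HopfRep.Comod k A V]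
variable {ι : Type*} [Fintype ι] [DecidableEq ι] (b : Module.Basis ι k V)

/-- `A`-valued coordinates of an element of `V ⊗ A` -/
noncomputable def crd (A : Type v) [CommRing A] [Algebra k A] (i : ι) : V ⊗[k] A →ₗ[k] A :=
  (TensorProduct.lid k A).toLinearMap ∘ₗ (b.coord i).rTensor A

omit [Fintype ι] [DecidableEq ι] [HopfRep.Comod k A V] in
@[simp] theorem crd_tmul (i : ι) (v : V) (a : A) : crd b A i (v ⊗ₜ a) = b.coord i v • a := by
  simp [crd]

omit [DecidableEq ι] [HopfRep.Comod k A V] in
theorem sum_crd (x : V ⊗[k] A) : ∑ i, b i ⊗ₜ[k] crd b A i x = x := by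
  induction x with
  | zero => simp
  | add x y hx hy => simp only [map_add, TensorProduct.tmul_add, Finset.sum_add_distrib, hx, hy]
  | tmul v a =>
    have h : ∀ i, b i ⊗ₜ[k] crd b A i (v ⊗ₜ[k] a) = (b.repr v i • b i) ⊗ₜ[k] a := fun i => by
      rw [crd_tmul, Module.Basis.coord_apply, TensorProduct.tmul_smul, TensorProduct.smul_tmul']
    rw [Finset.sum_congr rfl fun i _ => h i, ← TensorProduct.sum_tmul, b.sum_repr]

omit [DecidableEq ι] [HopfRep.Comod k A V] in
theorem ext_crd {x y : V ⊗[k] A} (h : ∀ i, crd b A i x = crd b A i y) : x = y := by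
  rw [← sum_crd b x, ← sum_crd b y]
  exact Finset.sum_congr rfl fun i _ => by rw [h]

/-- the matrix coefficients -/
noncomputable def rmat : Matrix ι ι A := fun i j =>
  crd b A i (HopfRep.Comod.coact (k := k) (A := A) (b j))

omit [DecidableEq ι] in
theorem coact_basis (j : ι) :
    HopfRep.Comod.coact (k := k) (A := A) (b j) = ∑ i, b i ⊗ₜ[k] rmat (A := A) b i j :=
  (sum_crd b _).symm

theorem comul_rmat (i j : ι) : Coalgebra.comul (R := k) (rmat (A := A) b i j) =
    ∑ l, rmat (A := A) b i l ⊗ₜ[k] rmat (A := A) b l j := by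
  have h := LinearMap.congr_fun (HopfRep.Comod.coassoc (k := k) (A := A) (V := V)) (b j)
  simp only [LinearMap.comp_apply, coact_basis b j, map_sum, LinearMap.rTensor_tmul,
    LinearMap.lTensor_tmul, LinearEquiv.coe_coe] at h
  have h2 := congrArg (crd b (A ⊗[k] A) i) h
  simp only [coact_basis b, TensorProduct.sum_tmul, map_sum, TensorProduct.assoc_tmul, crd_tmul,
    Module.Basis.coord_apply, Module.Basis.repr_self] at h2
  simp only [Finsupp.single_apply, ite_smul, one_smul, zero_smul, Finset.sum_ite_eq',
    Finset.mem_univ, if_true] at h2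
  exact h2.symm

theorem counit_rmat (i j : ι) : Coalgebra.counit (R := k) (rmat (A := A) b i j) =
    (1 : Matrix ι ι k) i j := by
  have h := LinearMap.congr_fun (HopfRep.Comod.counit_comp (k := k) (A := A) (V := V)) (b j)
  simp only [LinearMap.comp_apply, coact_basis b j, map_sum, LinearMap.lTensor_tmul] at h
  have h2 := congrArg (crd b k i) h
  simp only [map_sum, crd_tmul, Module.Basis.coord_apply, Module.Basis.repr_self] at h2
  simp only [LinearMap.flip_apply, TensorProduct.mk_apply, crd_tmul, Finsupp.single_apply, ite_smul, one_smul, zero_smul,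
    Finset.sum_ite_eq', Finset.mem_univ, if_true, Module.Basis.coord_apply, Module.Basis.repr_self] at h2
  rw [Matrix.one_apply]
  refine h2.trans ?_
  by_cases hij : i = j
  · subst hij; simp
  · simp [hij, Ne.symm hij]

end Basic

section Points

variable {k : Type u} [CommRing k] {A : Type u} [CommRing A] [Bialgebra k A]
variable {V : Type w} [AddCommGroup V] [Module k V] [HopfRep.Comod k A V]
variable {ι : Type*} [Fintype ι] [DecidableEq ι] (b : Module.Basis ι k V)

theorem map_rmat_pmul {B : Type u} [CommRing B] [Algebra k B] (g h : A →ₐ[k] B) :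
    (rmat (A := A) b).map (pmul g h) = (rmat (A := A) b).map g * (rmat (A := A) b).map h := by
  ext i j
  simp only [Matrix.map_apply, Matrix.mul_apply]
  show (Algebra.TensorProduct.lift g h (fun _ _ => Commute.all _ _))
    (Coalgebra.comul (R := k) (rmat (A := A) b i j)) = _
  rw [comul_rmat, map_sum]
  simp

theorem map_rmat_pone (B : Type u) [CommRing B] [Algebra k B] :
    (rmat (A := A) b).map (pone (k := k) B) = 1 := by
  ext i j
  simp only [Matrix.map_apply]
  show algebraMap k B (Coalgebra.counit (R := k) (rmat (A := A) b i j)) = _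
  rw [counit_rmat]
  simp only [Matrix.one_apply]
  split_ifs <;> simp

end Points

end Groth.Agent.ResProp.EF.K90
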