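import Groth.Agent.ResProp.EF.K90.MatG

/-!
# G5, node (B5), part 4: `x ↦ x ⊗ 1` on points, the fields of `TowerMod`
-/

set_option autoImplicit false

universe u

open TensorProduct WithConv

noncomputable section

namespace Groth.Agent.ResProp.EF.K90

open Groth.Agent.ResProp.EF.Grp Groth.Agent.ResProp.EF.K104 Groth.Agent.ResProp.EF.K208 Groth.Agent.ResProp.EF.K649

attribute [local instance] K208.convGrp

variable {k : Type u} [CommRing k] {E : Gp k}

theorem theta_mIso (T T' : MRep E) (M : GMod E) (f : Matrix T.I T.I M.V →ₗ[k] Matrix (T.I × T'.I) (T.I × T'.I) M.V)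
    (hf : ∀ X p q, f X p q = if p.2 = q.2 then X p.1 q.1 else 0)
    (B : Type u) [CommRing B] [Algebra k B] (x : Matrix T.I T.I M.V ⊗[k] B) :
    (theta T T' M).app B (mIso M.V B x) = mIso M.V B (f.rTensor B x) := by
  refine Matrix.ext (m := T.I × T'.I) (n := T.I × T'.I) fun p q => ?_
  have h : ent k M.V p q ∘ₗ f = if p.2 = q.2 then ent k M.V p.1 q.1 else 0 := by
    ext X
    rw [LinearMap.comp_apply, ent_apply, hf]
    split_ifs <;> rfl
  have h1 : mIso M.V B (f.rTensor B x) p q = (ent k M.V p q ∘ₗ f).rTensor B x := by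
    rw [LinearMap.rTensor_comp]; rfl
  refine Eq.trans ?_ h1.symm
  rw [h]
  refine (theta_apply T T' M B (mIso M.V B x) p q).trans ?_
  split_ifs
  · rfl
  · simp

/-- the iso of `TowerMod` -/
def isoF (T : MRep E) (M : GMod E) (B : Type u) [CommRing B] [Algebra k B] :
    (matG T M).V ⊗[k] B ≃+ (matMod T M).pt B :=
  (mIso M.V B).toAddEquiv

theorem isoF_nat (T : MRep E) (M : GMod E) {B C : Type u} [CommRing B] [Algebra k B] [CommRing C] [Algebra k C]
    (f : B →ₐ[k] C) (x : (matG T M).V ⊗[k] B) :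
    isoF T M C (f.toLinearMap.lTensor (matG T M).V x) = (matMod T M).map f (isoF T M B x) :=
  mIso_map' f x

theorem isoF_act (T : MRep E) (M : GMod E) (B : Type u) [CommRing B] [Algebra k B] [Module.Flat k B]
    (g : E.O →ₐ[k] B) (x : (matG T M).V ⊗[k] B) :
    isoF T M B (K208.actM (HopfRep.Comod.coact (k := k) (A := E.O) (V := (matG T M).V)) (toConv g) x) =
      (matMod T M).act B (mkPt E g) (isoF T M B x) :=
  mIso_act T M (mkPt E g) x

theorem isoF_theta (T T' : MRep E) (M : GMod E)
    (f : (matG T M).V →ₗ[k] (matG (T.mul T') M).V)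
    (hf : ∀ (X : Matrix T.I T.I M.V) (p q : T.I × T'.I),
      (f X : Matrix (T.I × T'.I) (T.I × T'.I) M.V) p q = if p.2 = q.2 then X p.1 q.1 else 0)
    (B : Type u) [CommRing B] [Algebra k B] (x : (matG T M).V ⊗[k] B) :
    (theta T T' M).app B (isoF T M B x) = isoF (T.mul T') M B (f.rTensor B x) :=
  theta_mIso T T' M f hf B x

end Groth.Agent.ResProp.EF.K90
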