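import Groth.Agent.ResProp.EF.K90.GrGen0
import Groth.Agent.ResProp.EF.K90.CoHom
import Groth.Agent.ResProp.EF.K649.CovWit
import Groth.Agent.ResProp.EF.K280.ProdTop

/-!
# `GenN` from the coaction on the graded pieces (second text of GrGen)
-/

set_option autoImplicit false
set_option linter.dupNamespace false
set_option linter.style.haveILetI false

open CategoryTheory Opposite TensorProduct

noncomputable section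

namespace Groth.Agent.ResProp.EF.K90

open K784.BC K784.PM K741.RP EF56 Groth.Agent.ResProp.EF.Arch Groth.Agent.ResProp.EF.K863 Groth.Agent.ResProp.EF.K341
  Groth.Agent.ResProp.EF.K86 K477 Groth.Agent.ResProp.EF.K741 Grp K980
open Groth.Agent.ResProp.EF.K567 (rhoOf dHom)
open Groth.Agent.ResProp.EF.K884.MatPt (IsMC matPt)
open Groth.Agent.ResProp.EF.K884.EtaD (upt etaD vtxD_etaD_bc)
open Groth.Agent.ResProp.EF.K884.LevPM (inb)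
open Groth.Agent.ResProp.EF.K884.LevW (dIso)
open Groth.Agent.ResProp.EF.K280 (GenN)

universe u

variable {k : Type u} [CommRing k] {A : NFᵒᵖ ⥤ CommRingCat.{u}} [GRF k A] {x : PrimeSpectrum (A.obj (op ⟨0⟩))}
  (c : CoverDatum k A x) {ι : Type} [Fintype ι] [DecidableEq ι]
  [Algebra (A.obj (op ⟨0⟩) ⊗[k] c.H.O) (c.Y.D.obj (op ⟨0⟩) ⊗[k] c.H.O)]
  (halg : ∀ (r : A.obj (op ⟨0⟩)) (o : c.H.O),
    algebraMap (A.obj (op ⟨0⟩) ⊗[k] c.H.O) (c.Y.D.obj (op ⟨0⟩) ⊗[k] c.H.O) (r ⊗ₜ o) =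
      algebraMap (A.obj (op ⟨0⟩)) (c.Y.D.obj (op ⟨0⟩)) r ⊗ₜ o)

omit [Fintype ι] [DecidableEq ι] [Algebra (A.obj (op ⟨0⟩) ⊗[k] c.H.O) (c.Y.D.obj (op ⟨0⟩) ⊗[k] c.H.O)] in
/-- 86's invariance in the language of squares -/
theorem inv_of {ω : ι → Ω[(c.Y.D.obj (op ⟨0⟩))⁄(A.obj (op ⟨0⟩))]}
    (hinv : ∀ l, (omPM c.Y.j).map (pr ⟨0⟩) (show (omPM c.Y.j).obj ⟨0⟩ from ω l) =
      (omPM c.Y.j).map (lst ⟨0⟩) (show (omPM c.Y.j).obj ⟨0⟩ from ω l)) (i : ι) :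
    K341.om (sqY c.Y (pr ⟨0⟩)) (ω i) = K341.om (sqY c.Y (lst ⟨0⟩)) (ω i) :=
  (om_sqY c (pr ⟨0⟩) (ω i)).trans ((hinv i).trans (om_sqY c (lst ⟨0⟩) (ω i)).symm)

/-- the output of GrCo in the form needed here -/
structure GrCoOut (F : MFam c.Y ι) (C : Matrix ι ι c.H.O)
    (hco : letI := omk c ⟨0⟩; ∀ l, (omC c ⟨0⟩).coact (F.w ⟨0⟩ l) = ∑ m, (F.w ⟨0⟩ m : (omPM c.Y.j).obj ⟨0⟩) ⊗ₜ[k] C m l)
    (n : ℕ) where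
  co0 : HopfRep.Comod k c.H.O ((F.m ⟨0⟩).gr n)
  co1 : HopfRep.Comod k c.H.O ((F.m ⟨1⟩).gr n)
  hp : ∀ z, co1.coact (grMap c F n (pr ⟨0⟩) z) = (grMap c F n (pr ⟨0⟩)).rTensor c.H.O (co0.coact z)
  hq : ∀ z, co1.coact (grMap c F n (lst ⟨0⟩) z) = (grMap c F n (lst ⟨0⟩)).rTensor c.H.O (co0.coact z)
  mO : Model (A.obj (op ⟨0⟩) ⊗[k] c.H.O) (c.Y.D.obj (op ⟨0⟩) ⊗[k] c.H.O) (ι → c.Y.D.obj (op ⟨0⟩) ⊗[k] c.H.O)
    (rhoI (wO c ⟨0⟩ halg (F.w ⟨0⟩)))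
  can : ∀ {r : ℕ} (z : (F.m ⟨0⟩).gr n) (t : Fin r → (F.m ⟨0⟩).gr n) (s : Fin r → c.H.O),
    co0.coact z = ∑ l, t l ⊗ₜ[k] s l →
    (mhomCo c ⟨0⟩ halg (F.w ⟨0⟩) C hco).gr (F.m ⟨0⟩) mO n z =
      ∑ l, ((1 : A.obj (op ⟨0⟩)) ⊗ₜ[k] s l) • (mhomInc c ⟨0⟩ halg (F.w ⟨0⟩)).gr (F.m ⟨0⟩) mO n (t l)

theorem genN_of (hSC : SerreCover c.H) [IsNoetherianRing (A.obj (op ⟨0⟩))]
    (C : Matrix ι ι c.H.O) (hC : IsMC C) (ω : ι → Ω[(c.Y.D.obj (op ⟨0⟩))⁄(A.obj (op ⟨0⟩))])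
    (hinv : ∀ l, (omPM c.Y.j).map (pr ⟨0⟩) (show (omPM c.Y.j).obj ⟨0⟩ from ω l) =
      (omPM c.Y.j).map (lst ⟨0⟩) (show (omPM c.Y.j).obj ⟨0⟩ from ω l))
    (hco : letI := omk c ⟨0⟩; ∀ l, (omC c ⟨0⟩).coact (show (omPM c.Y.j).obj ⟨0⟩ from ω l) =
      ∑ m, (show (omPM c.Y.j).obj ⟨0⟩ from ω m) ⊗ₜ[k] C m l)
    (m : Model (A.obj (op ⟨0⟩)) (c.Y.D.obj (op ⟨0⟩)) (ι → c.Y.D.obj (op ⟨0⟩)) (rhoOf ω)) (n : ℕ)
    (G : GrCoOut c halg (mfam (inv_of c hinv) m) C hco n) :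
    Nonempty (GenN m (dIso c hC hinv hco c.H.O 1 0 1 (upt c.H)) (inb k A c.H.O 1) n) := by
  obtain ⟨r, u, M, h1, h2, h3, h4, h5⟩ := exists_grU c hSC (mfam (inv_of c hinv) m) n G.co0 G.co1 G.hp G.hq
  exact ⟨{
    r := r
    u := fun i => (u i).1
    hu := fun i => (u i).2
    M := M
    hM := ⟨h3, h4⟩
    span := h5
    cond := fun φ hφ i => K649.cond_lv (mfam (inv_of c hinv) m) halg (mhomInc c ⟨0⟩ halg _) C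
      (C' := Matrix.of fun m l => (1 : c.Y.D.obj (op ⟨0⟩)) ⊗ₜ[k] C m l) (fun _ _ => rfl)
      (mhomCo c ⟨0⟩ halg _ C hco) G.mO u M h2 (fun l => G.can _ _ _ (h1 l)) c.H.O 1 0 1 (AlgHom.id k c.H.O)
      (dIso c hC hinv hco c.H.O 1 0 1 (upt c.H)) (fun d => vtxD_etaD_bc c 1 0 1 (upt c.H) d)
      (fun p => K567.matV_single _ _ p) φ hφ i }⟩

end Groth.Agent.ResProp.EF.K90
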