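import Groth.Agent.ResProp.EF.K90.GenOf
import Groth.Agent.ResProp.EF.K884.GrNat

/-!
# The coactions on the graded pieces for `c : CoverDatum`, and `StmtGen`
-/

set_option autoImplicit false
set_option linter.dupNamespace false
set_option linter.style.haveILetI false

open CategoryTheory Opposite TensorProduct

noncomputable section

namespace Groth.Agent.ResProp.EF.K90

open K784.BC K784.PM K741.RP EF56 Groth.Agent.ResProp.EF.Arch Groth.Agent.ResProp.EF.K863 Groth.Agent.ResProp.EF.K341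
  Groth.Agent.ResProp.EF.K86 K477 Groth.Agent.ResProp.EF.K741 Grp K980
open Groth.Agent.ResProp.EF.K567 (rhoOf dHom)
open Groth.Agent.ResProp.EF.K884.MatPt (IsMC matPt)

universe u

attribute [local instance] algT

variable {k : Type u} [CommRing k] {A : NFᵒᵖ ⥤ CommRingCat.{u}} [GRF k A] {x : PrimeSpectrum (A.obj (op ⟨0⟩))}
  (c : CoverDatum k A x) {ι : Type} [Fintype ι] [DecidableEq ι]

/-- the coaction datum at a level -/
theorem coDat (a : NF) (w : ι → Ω[c.Y.D.obj (op a)⁄A.obj (op a)]) {C : Matrix ι ι c.H.O} (hC : IsMC C)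
    (hco : letI := omk c a; ∀ l, (omC c a).coact (w l) = ∑ m, (w m : (omPM c.Y.j).obj a) ⊗ₜ[k] C m l) :
    CoDat w (c.ρ a) C where
  mρ := mhomCo c a (fun r o => rfl) w C hco
  comul := hC.comul
  counit := hC.counit

section Level

variable {R D O : Type u} [CommRing R] [Algebra k R] [CommRing D] [Algebra k D] [Algebra R D] [IsScalarTower k R D]
  [CommRing O] [HopfAlgebra k O] [Module.Flat k O] {co : K83.CoAlg k O D} {C : Matrix ι ι O} {ω : ι → Ω[D⁄R]}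

/-- the coaction on the graded piece at a level with its characterization -/
theorem exists_lev (m : Model R D (ι → D) (rhoI ω)) (n : ℕ) (h : CoDat ω co C) :
    ∃ (mO : Model (R ⊗[k] O) (D ⊗[k] O) (ι → D ⊗[k] O) (rhoI (ωT ω O))) (can : m.gr n ⊗[k] O →+ mO.gr n)
      (co' : HopfRep.Comod k O (m.gr n)), Function.Bijective can ∧
      (∀ z s, can (z ⊗ₜ s) = ((1 : D) ⊗ₜ[k] s) • (mI (k := k) ω O).gr m mO n z) ∧
      ∀ z, can (co'.coact z) = h.mρ.gr m mO n z := by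
  haveI : IsScalarTower k D (m.gr n) := IsScalarTower.of_algebraMap_smul fun r z => by
    rw [IsScalarTower.algebraMap_apply k R D]
    exact (gr_ksmul m n r z).symm
  obtain ⟨mO⟩ := (mI (k := k) ω O).exists_model (isBC_iI k R D O) m
  obtain ⟨mOO⟩ := (mI (k := k) ω (O ⊗[k] O)).exists_model (isBC_iI k R D (O ⊗[k] O)) m
  obtain ⟨can, h1, h2⟩ := exists_canGr (k := k) m n (AddEquiv.refl (m.gr n)) (fun _ _ => rfl) mO
  obtain ⟨co', h3⟩ := exists_grCo (mOO := mOO) h (AddEquiv.refl (m.gr n)) (fun _ _ => rfl) can h1 h2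
  exact ⟨mO, can, co', h1, h2, h3⟩

end Level

/-- **the coactions at the levels `0`, `1` with all their properties** -/
theorem exists_grCoOut (F : MFam c.Y ι) {C : Matrix ι ι c.H.O} (hC : IsMC C)
    (hco : letI := omk c ⟨0⟩; ∀ l, (omC c ⟨0⟩).coact (F.w ⟨0⟩ l) = ∑ m, (F.w ⟨0⟩ m : (omPM c.Y.j).obj ⟨0⟩) ⊗ₜ[k] C m l)
    (hco1 : letI := omk c ⟨1⟩; ∀ l, (omC c ⟨1⟩).coact (F.w ⟨1⟩ l) = ∑ m, (F.w ⟨1⟩ m : (omPM c.Y.j).obj ⟨1⟩) ⊗ₜ[k] C m l)
    (n : ℕ) : Nonempty (GrCoOut c (fun _ _ => rfl) F C hco n) := by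
  obtain ⟨mO0, can0, co0, b0, t0, e0⟩ := exists_lev (F.m ⟨0⟩) n (coDat c ⟨0⟩ (F.w ⟨0⟩) hC hco)
  obtain ⟨mO1, can1, co1, b1, t1, e1⟩ := exists_lev (F.m ⟨1⟩) n (coDat c ⟨1⟩ (F.w ⟨1⟩) hC hco1)
  haveI : IsScalarTower k (c.Y.D.obj (op ⟨0⟩)) ((F.m ⟨0⟩).gr n) := IsScalarTower.of_algebraMap_smul fun r z =>
    (gr_ksmul (F.m ⟨0⟩) n r z).symm
  haveI : IsScalarTower k (c.Y.D.obj (op ⟨1⟩)) ((F.m ⟨1⟩).gr n) := IsScalarTower.of_algebraMap_smul fun r z =>
    (gr_ksmul (F.m ⟨1⟩) n r z).symm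
  have key : ∀ φ : (⟨1⟩ : NF) ⟶ ⟨0⟩, ∀ z, co1.coact (grMap c F n φ z) = (grMap c F n φ).rTensor c.H.O (co0.coact z) :=
    fun φ z => K884.GrNat.coact_nat (x := rgk k A φ) (η := c.Y.rk (k := k) φ) (F.hom φ)
      (AddEquiv.refl ((F.m ⟨0⟩).gr n)) (AddEquiv.refl ((F.m ⟨1⟩).gr n)) (grMap c F n φ) (fun _ => rfl)
      (coDat c ⟨0⟩ (F.w ⟨0⟩) hC hco) (coDat c ⟨1⟩ (F.w ⟨1⟩) hC hco1) (fun d => c.ρ_nat φ d)
      can0 t0 can1 b1.1 t1 co0 e0 co1 e1 z
  exact ⟨{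
    co0 := co0
    co1 := co1
    hp := key _
    hq := key _
    mO := mO0
    can := fun z t s hz => by
      have h1 := e0 z
      rw [hz, map_sum] at h1
      refine Eq.trans h1.symm (Finset.sum_congr rfl fun l _ => (t0 _ _).trans ?_)
      exact (one_smul_gr n mO0 (s l) _).symm }⟩

end Groth.Agent.ResProp.EF.K90
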