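import Groth.Agent.ResProp.EF.K90.GrPM
import Groth.Agent.ResProp.EF.K863.Gr

/-!
# The equivariant invariant cover of the graded pieces (GrPM, second part)
-/

set_option autoImplicit false
set_option linter.dupNamespace false
set_option linter.style.haveILetI false

open CategoryTheory Opposite

noncomputable section

namespace Groth.Agent.ResProp.EF.K90

open K784.BC K784.PM K741.RP EF56 Groth.Agent.ResProp.EF.Arch Groth.Agent.ResProp.EF.K863 Groth.Agent.ResProp.EF.K341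
  Groth.Agent.ResProp.EF.K86 K477 Groth.Agent.ResProp.EF.K741 Grp

universe u

/-- the scalars of a smaller ring act on the graded pieces through `D` -/
theorem gr_ksmul {k R D : Type*} [CommRing k] [CommRing R] [Algebra k R] [CommRing D] [Algebra R D] {V : Type*}
    [AddCommGroup V] [Module D V] {ρ : V →ₗ[D] Ω[D⁄R]} (m : Model R D V ρ) (n : ℕ) (r : k) (z : m.gr n) :
    r • z = algebraMap R D (algebraMap k R r) • z := by
  rw [← K341.gr_rsmul]
  obtain ⟨y, rfl⟩ := m.toGr_surjective n z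
  have h1 : r • m.toGr n y = m.toGr n (r • y) := rfl
  have h2 : algebraMap k R r • m.toGr n y = m.toGr n (algebraMap k R r • y) := rfl
  rw [h1, h2]
  congr 1
  refine Subtype.ext ?_
  exact (algebraMap_smul R r (y : m.PP)).symm

variable {k : Type u} [CommRing k] {A : NFᵒᵖ ⥤ CommRingCat.{u}} [GRF k A] {x : PrimeSpectrum (A.obj (op ⟨0⟩))}
  (c : CoverDatum k A x) {ι : Type} [Fintype ι] [DecidableEq ι]

/-- the `k`-linear form of a transition map -/
def grMap (F : MFam c.Y ι) (n : ℕ) {a b : NF} (φ : a ⟶ b) : (F.m b).gr n →ₗ[k] (F.m a).gr n :=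
  { toFun := fun z => (F.hom φ).gr (F.m b) (F.m a) n z
    map_add' := fun z z' => ((F.hom φ).gr (F.m b) (F.m a) n).map_add z z'
    map_smul' := fun r z => by
      rw [gr_ksmul, MHom.gr_smul, RingHom.id_apply, gr_ksmul]
      exact congrArg (fun t => t • (F.hom φ).gr (F.m b) (F.m a) n z) ((c.Y.rk (k := k) φ).commutes r) }

theorem grMap_apply (F : MFam c.Y ι) (n : ℕ) {a b : NF} (φ : a ⟶ b) (z : (F.m b).gr n) :
    grMap c F n φ z = (F.hom φ).gr (F.m b) (F.m a) n z := rfl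

/-- **the equivariant, `Γ`-invariant cover of the graded piece of degree `n`** -/
theorem exists_grCover [IsNoetherianRing (A.obj (op ⟨0⟩))] (hSC : SerreCover c.H) (F : MFam c.Y ι) (n : ℕ)
    (co0 : HopfRep.Comod k c.H.O ((F.m ⟨0⟩).gr n)) (co1 : HopfRep.Comod k c.H.O ((F.m ⟨1⟩).gr n))
    (hp : ∀ z, co1.coact (grMap c F n (pr ⟨0⟩) z) = (grMap c F n (pr ⟨0⟩)).rTensor c.H.O (co0.coact z))
    (hq : ∀ z, co1.coact (grMap c F n (lst ⟨0⟩) z) = (grMap c F n (lst ⟨0⟩)).rTensor c.H.O (co0.coact z)) :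
    ∃ (V : GMod c.H) (_ : Module.Free k V.V) (_ : Module.Finite k V.V) (f : V.V →ₗ[k] (F.m ⟨0⟩).gr n),
      (∀ v, co0.coact (f v) = f.rTensor c.H.O (V.co.coact v)) ∧
      (∀ v, grMap c F n (pr ⟨0⟩) (f v) = grMap c F n (lst ⟨0⟩) (f v)) ∧
      Submodule.span (c.Y.D.obj (op ⟨0⟩)) (LinearMap.range f : Set ((F.m ⟨0⟩).gr n)) = ⊤ :=
  exists_cover c.H hSC (gr_of_cartHom (GRF.gr k (A := A)) c.Y.cart) c.gal (F.grPM n)
    (F.grPM_cart (GRF.gr k (A := A)) n) co0 co1 (grMap c F n (pr ⟨0⟩)) (grMap c F n (lst ⟨0⟩))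
    (fun _ => rfl) (fun _ => rfl) hp hq ((F.m ⟨0⟩).gr_finite n)

end Groth.Agent.ResProp.EF.K90
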