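import Groth.Agent.ResProp.EF.K90.GrCoInst

/-!
# `StmtGen` and `StmtProd`
-/

set_option autoImplicit false
set_option linter.dupNamespace false
set_option linter.style.haveILetI false

open CategoryTheory Opposite TensorProduct

noncomputable section

namespace Groth.Agent.ResProp.EF.K90

open Groth.Agent.ResProp.EF.K341

universe u

attribute [local instance] algT

/-- **the equivariant generators of the graded pieces** -/
theorem stmtGen : K280.StmtGen.{u} := by
  intro p k _ _ A _ x c ι _ _ C hC ω hinv hco m n
  haveI : IsNoetherianRing (A.obj (op ⟨0⟩)) := K280.isNoeth (k := k) p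
  obtain ⟨G⟩ := exists_grCoOut c (mfam (inv_of c hinv) m) hC hco (coact_wOf c ⟨1⟩ ω C hco) n
  exact genN_of c (fun _ _ => rfl) (K280.serre p c.H) C hC ω hinv hco m n G

/-- **the producer** -/
theorem stmtProd : K980.StmtProd.{u} := K280.stmtProd_of_gen stmtGen

end Groth.Agent.ResProp.EF.K90
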