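import Groth.Agent.ResProp.EF.K90.Tw
import Groth.Agent.ResProp.EF.K661.Tower

/-!
# G5, node (B5): the tower of an operator package satisfies `TowerMod`, so `Grp.Kill` gives `K104.Kill`
-/

set_option autoImplicit false

universe u

open TensorProduct WithConv

noncomputable section

namespace Groth.Agent.ResProp.EF.K90

open Groth.Agent.ResProp.EF.Grp Groth.Agent.ResProp.EF.K104 Groth.Agent.ResProp.EF.K208 Groth.Agent.ResProp.EF.K649
  Groth.Agent.ResProp.EF.K661

variable {k : Type u} [CommRing k] {H0 : Gp k} {n : ℕ} {P : OpPkg (pts H0) n}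

/-- **(B5)** -/
def towerMod (G : GrDat P) : K778.TowerMod H0 (tower G) where
  Q T j := matG T (G.gr j)
  iso T j _ _ B _ _ _ := isoF T (G.gr j) B
  iso_nat T j _ _ {B C} _ _ _ _ _ _ f x := isoF_nat T (G.gr j) f x
  iso_act T j _ _ B _ _ _ g x := isoF_act T (G.gr j) B g x
  tw T' hT e T j _ _ := by
    obtain ⟨t, φ, h1, h2⟩ := exists_tw T' hT e T (G.gr j)
    exact ⟨t, φ, h1, fun B _ _ _ x => h2 B x⟩

/-- The killing lemma for the tower. -/
theorem kill_tower (G : GrDat P) (hK : Grp.Kill H0) : K104.Kill (tower G) (AdmP H0) :=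
  K778.kill_of_towerMod H0 hK (tower G) (towerMod G)

variable (P)

/-- The killing lemma for the tower of an operator package. -/
theorem kill_towerOf (hK : Grp.Kill H0) : K104.Kill (towerOf P) (AdmP H0) :=
  kill_tower (grDat P) hK

/-- **G5, output**: an admissible group, a twist and a homomorphism to the twisted lifts. -/
theorem lift_of (hK : Grp.Kill H0) :
    ∃ (E : Gp k) (ι : H0.O →ₐc[k] E.O) (T : MRep H0) (s : GHom (pts E) (NF P (mr T))), Grp.Adm H0 E ι ∧
      ∀ (B : Type u) [CommRing B] [Algebra k B] (g : E.O →ₐ[k] B),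
        (NFπ P (mr T)).app B (s.app B (mkPt E g)) = mkPt H0 (g.comp (ι : H0.O →ₐ[k] E.O)) :=
  lift_rep (towerOf P) (kill_towerOf P hK)

end Groth.Agent.ResProp.EF.K90
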